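import Groth.Agent.Quiet.K841.Comp

/-!
# Lifting quasi-etale morphisms along thickenings
-/
set_option autoImplicit false
set_option linter.unusedVariables false

universe u

open CategoryTheory CategoryTheory.Limits AlgebraicGeometry Polynomial

namespace K841.Quiet

open _root_.Quiet

variable {p : ℕ}

lemma rootRing_map_surjective {A B : CommRingCat.{u}} (α : A ⟶ B) (hα : Function.Surjective α.hom)
    (a : A) : Function.Surjective
      (AdjoinRoot.map α.hom (X ^ p - C a : A[X]) (X ^ p - C (α.hom a) : B[X]) (by simp)) := by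
  intro y
  induction y using AdjoinRoot.induction_on with
  | ih f =>
    obtain ⟨g, rfl⟩ := Polynomial.map_surjective _ hα f
    have h : (AdjoinRoot.map α.hom (X ^ p - C a : A[X]) (X ^ p - C (α.hom a) : B[X])
        (by simp)).comp (AdjoinRoot.mk _) = (AdjoinRoot.mk _).comp (Polynomial.mapRingHom α.hom) := by
      apply Polynomial.ringHom_ext
      · intro x
        simp
      · simp
    exact ⟨AdjoinRoot.mk _ g, congr($h g)⟩

/-- Root towers lift along surjections. -/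
theorem Tower.exists_lift {n : ℕ} {A B C : CommRingCat.{u}} (α : A ⟶ B)
    (hα : Function.Surjective α.hom) {φ : B ⟶ C} (h : Tower p n φ) :
    ∃ (C' : CommRingCat.{u}) (φ' : A ⟶ C') (γ : C' ⟶ C), Tower p n φ' ∧ IsPushout φ' α γ φ := by
  induction n generalizing A B C with
  | zero =>
    rw [tower_zero] at h
    exact ⟨A, 𝟙 A, α ≫ φ, by rw [tower_zero]; infer_instance, IsPushout.of_horiz_isIso ⟨by simp⟩⟩
  | succ n ih =>
    obtain ⟨b, ψ, rfl, h2⟩ := h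
    obtain ⟨a, rfl⟩ := hα b
    obtain ⟨C', φ', γ, h3, h4⟩ := ih (CommRingCat.ofHom (AdjoinRoot.map α.hom
      (X ^ p - Polynomial.C a : A[X]) (X ^ p - Polynomial.C (α.hom a) : B[X]) (by simp)))
      (rootRing_map_surjective α hα a) h2
    exact ⟨C', rootMap p A a ≫ φ', γ, ⟨a, φ', rfl, h3⟩,
      (rootMap_isPushout p α a).paste_horiz h4⟩

lemma isPullback_fromSpec {X Y : Scheme.{u}} (f : Y ⟶ X) {U : X.Opens} (hU : IsAffineOpen U)
    (hfU : IsAffineOpen (f ⁻¹ᵁ U)) :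
    IsPullback hfU.fromSpec (Spec.map (f.app U)) f hU.fromSpec := by
  have h := (isPullback_morphismRestrict f U).flip
  refine h.of_iso hfU.isoSpec (Iso.refl _) hU.isoSpec (Iso.refl _) ?_ ?_ ?_ ?_
  · simp
  · rw [← cancel_mono hU.fromSpec, Category.assoc, Category.assoc]
    have h1 := IsAffineOpen.SpecMap_appLE_fromSpec f hU hfU le_rfl
    rw [← Scheme.Hom.app_eq_appLE] at h1
    rw [h1]
    simp
  · simp
  · simp

lemma pthRoot_SpecMap {n : ℕ} {A B : CommRingCat.{u}} {φ : A ⟶ B} (h : Tower p n φ) :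
    IsPthRoot p (Spec.map φ) := by
  rw [isPthRoot_iff]
  intro x
  refine ⟨⟨⊤, isAffineOpen_top _⟩, trivial, isAffineOpen_top (Spec B), n, ?_⟩
  refine h.of_isPushout (α := (Scheme.ΓSpecIso A).inv) (β := (Scheme.ΓSpecIso B).inv) ?_
  exact IsPushout.of_vert_isIso ⟨(Scheme.ΓSpecIso_inv_naturality φ)⟩

theorem exists_thickening_lift {T U U' : Scheme.{u}}
    (i : U ⟶ T) [IsClosedImmersion i] [Surjective i] (f' : U' ⟶ U)
    (hf' : IsQuiet p f') (u : U') :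
    ∃ (V : U'.Opens) (T' : Scheme.{u}) (q : T' ⟶ T) (j : (V : Scheme.{u}) ⟶ T'),
      u ∈ V ∧ IsQuiet p q ∧ IsPullback j (V.ι ≫ f') q i := by
  rw [isQuiet_iff] at hf'
  obtain ⟨V₀, j₀, Y', r, e, h0, h1, h2, h3, h4⟩ := hf' u
  obtain ⟨v₀, rfl⟩ := h1
  obtain ⟨T'', h, d', h5, h6⟩ := exists_etale_descent i e
  have hcl : IsClosedImmersion h := MorphismProperty.of_isPullback h6.flip inferInstance
  rw [isPthRoot_iff] at h2
  obtain ⟨U₀, hU₀, hU₀', n, hn⟩ := h2 (r v₀)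
  have hcl' : IsClosed (h '' (U₀.1 : Set Y')ᶜ) := h.isClosedMap _ U₀.1.2.isClosed_compl
  have hyn : h (r v₀) ∈ (h '' (U₀.1 : Set Y')ᶜ)ᶜ := by
    rintro ⟨y', hy', he⟩
    rw [h.injective he] at hy'
    exact hy' hU₀
  obtain ⟨_, ⟨T₀, hT₀, rfl⟩, hyT₀, hle⟩ := T''.isBasis_affineOpens.exists_subset_of_mem_open
    hyn hcl'.isOpen_compl
  have hle2 : h ⁻¹ᵁ T₀ ≤ U₀.1 := by
    intro z hz
    by_contra hzV
    exact hle hz ⟨z, hzV, rfl⟩
  have hB : IsAffineOpen (h ⁻¹ᵁ T₀) := hT₀.preimage h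
  obtain ⟨hC, ht⟩ := tower_app_mono U₀.2 hU₀' hB hle2 hn
  obtain ⟨C', φ', γ, ht', hpo⟩ := ht.exists_lift (h.app T₀) (h.app_surjective T₀ hT₀)
  have P1 := isPullback_SpecMap_of_isPushout _ _ _ _ hpo
  have P2 := isPullback_fromSpec h hT₀ hB
  have P3 := isPullback_fromSpec r hB hC
  -- `Spec C ⟶ T' = Spec C'`, `Spec C ⟶ Y'`
  have P4 : IsPullback (Spec.map γ) (Spec.map (r.app (h ⁻¹ᵁ T₀)) ≫ hB.fromSpec)
      (Spec.map φ' ≫ hT₀.fromSpec) h := P1.paste_vert P2.flip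
  have P5 : IsPullback (Spec.map γ) ((Spec.map (r.app (h ⁻¹ᵁ T₀)) ≫ hB.fromSpec) ≫ e)
      ((Spec.map φ' ≫ hT₀.fromSpec) ≫ d') i := P4.paste_vert h6
  let k : Spec Γ(V₀, r ⁻¹ᵁ h ⁻¹ᵁ T₀) ⟶ U' := hC.fromSpec ≫ j₀
  have hk : k ≫ f' = (Spec.map (r.app (h ⁻¹ᵁ T₀)) ≫ hB.fromSpec) ≫ e := by
    rw [← P3.w, Category.assoc, Category.assoc, h4]
  refine ⟨k.opensRange, Spec C', (Spec.map φ' ≫ hT₀.fromSpec) ≫ d',
    k.isoOpensRange.inv ≫ Spec.map γ, ?_, ?_, ?_⟩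
  · have : v₀ ∈ Set.range hC.fromSpec := by
      rw [hC.range_fromSpec]
      exact hyT₀
    obtain ⟨w, hw⟩ := this
    exact ⟨w, by simp [k, hw]⟩
  · rw [isQuiet_iff]
    intro y
    exact ⟨Spec C', 𝟙 _, Spec Γ(T'', T₀), Spec.map φ', hT₀.fromSpec ≫ d', inferInstance,
      by simp, pthRoot_SpecMap ht', inferInstance, by simp⟩
  · refine P5.of_iso k.isoOpensRange (Iso.refl _) (Iso.refl _) (Iso.refl _) ?_ ?_ ?_ ?_
    · simp
    · rw [← hk]; simp
    · simp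
    · simp

end K841.Quiet
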