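import Groth.Agent.Quiet.K841.Tower
import Groth.Agent.Sga5.RelFrobEtale
import Groth.Prelude.Def_Frob
import Mathlib.RingTheory.RingHom.Etale
import Mathlib.RingTheory.Polynomial.Basic
import Mathlib.Algebra.Category.Ring.Limits
import Mathlib.FieldTheory.Perfect

/-!
# Frobenius endomorphisms as root towers
-/
set_option autoImplicit false
set_option linter.unusedVariables false

universe u

open CategoryTheory CategoryTheory.Limits AlgebraicGeometry Polynomial

namespace K841.Quiet

open _root_.Quiet

variable {p : ℕ} [Fact p.Prime]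

/-- The Frobenius endomorphism in `CommRingCat`. -/
def fr (p : ℕ) [Fact p.Prime] (R : CommRingCat.{u}) (h : (p : R) = 0) : R ⟶ R :=
  CommRingCat.ofHom (FrobSch.powHom p R h)

@[simp]
lemma fr_hom_apply (R : CommRingCat.{u}) (h : (p : R) = 0) (x : R) : (fr p R h).hom x = x ^ p := rfl

lemma zero_of_hom {R S : CommRingCat.{u}} (f : R ⟶ S) (h : (p : R) = 0) : (p : S) = 0 := by
  have := congrArg f.hom h
  simpa using this

lemma fr_naturality {R S : CommRingCat.{u}} (f : R ⟶ S) (hR : (p : R) = 0) (hS : (p : S) = 0) :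
    fr p R hR ≫ f = f ≫ fr p S hS := by
  ext x
  simp

/-- For étale `φ : P ⟶ A`, the Frobenius of `A` is the base change of the Frobenius of `P`. -/
theorem isPushout_fr_of_etale {P A : CommRingCat.{u}} (φ : P ⟶ A) (hφ : φ.hom.Etale)
    (hP : (p : P) = 0) (hA : (p : A) = 0) :
    IsPushout (fr p P hP) φ φ (fr p A hA) := by
  have hQ0 : (p : (pushout (fr p P hP) φ : CommRingCat.{u})) = 0 :=
    zero_of_hom (pushout.inl (fr p P hP) φ) hP
  let δ : pushout (fr p P hP) φ ⟶ A := pushout.desc φ (fr p A hA) (fr_naturality φ hP hA)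
  have e1 : pushout.inl (fr p P hP) φ ≫ δ = φ := pushout.inl_desc _ _ _
  have e2 : pushout.inr (fr p P hP) φ ≫ δ = fr p A hA := pushout.inr_desc _ _ _
  have e3 : δ ≫ pushout.inr (fr p P hP) φ = fr p (pushout (fr p P hP) φ) hQ0 := by
    apply pushout.hom_ext
    · rw [← Category.assoc, e1, ← fr_naturality, pushout.condition]
    · rw [← Category.assoc, e2, ← fr_naturality]
  have hinl : (pushout.inl (fr p P hP) φ).hom.Etale :=
    RingHom.IsStableUnderBaseChange.pushout_inl RingHom.Etale.isStableUnderBaseChange
      RingHom.Etale.respectsIso _ _ hφ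
  have hδ : δ.hom.Etale := by
    refine Groth.Agent.Sga5.RelFrobEtale.etale_of_comp _ _ hinl ?_
    rw [← CommRingCat.hom_comp, e1]
    exact hφ
  have hbij : Function.Bijective δ.hom := by
    have key : ∀ x, (pushout.inr (fr p P hP) φ).hom (δ.hom x) = x ^ p := fun x =>
      congr($(e3).hom x)
    rcases subsingleton_or_nontrivial A with hs | hs
    · have : Subsingleton (pushout (fr p P hP) φ : CommRingCat.{u}) := by
        have h1 := key 1
        rw [one_pow, Subsingleton.elim (δ.hom 1) 0, map_zero] at h1
        exact subsingleton_of_zero_eq_one h1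
      exact ⟨Function.injective_of_subsingleton _, fun x => ⟨0, Subsingleton.elim _ _⟩⟩
    · have : CharP A p := by
        obtain ⟨q, hq⟩ := CharP.exists A
        have h1 : q ∣ p := (CharP.cast_eq_zero_iff A q p).1 hA
        rcases (Nat.dvd_prime (Fact.out : p.Prime)).1 h1 with h2 | h2
        · subst h2
          exact absurd ((CharP.cast_eq_zero_iff A 1 1).2 (dvd_refl 1))
            (by rw [Nat.cast_one]; exact one_ne_zero)
        · exact h2 ▸ hq
      algebraize [δ.hom]
      refine Groth.Agent.Sga5.RelFrobEtale.bijective_of_etale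
        (R := (pushout (fr p P hP) φ : CommRingCat.{u})) (S := A) p (fun b => ?_) (fun r hr => ?_)
      · exact ⟨(pushout.inr (fr p P hP) φ).hom b, congr($(e2).hom b)⟩
      · refine ⟨p, ?_⟩
        rw [← key]
        change (pushout.inr (fr p P hP) φ).hom (algebraMap _ A r) = 0
        rw [hr, map_zero]
  have hiso : IsIso δ := (ConcreteCategory.isIso_iff_bijective δ).2 hbij
  exact IsPushout.of_iso (IsPushout.of_hasPushout (fr p P hP) φ) (Iso.refl _) (Iso.refl _)
    (Iso.refl _) (asIso δ) (by simp) (by simp) (by simp [e1]) (by simp [e2])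

lemma fr_tower_of_iso {n : ℕ} {R S : CommRingCat.{u}} (e : R ≅ S) (hR : (p : R) = 0)
    (hS : (p : S) = 0) (h : Tower p n (fr p R hR)) : Tower p n (fr p S hS) := by
  refine h.of_isPushout (α := e.hom) (β := e.hom) ?_
  exact IsPushout.of_vert_isIso ⟨fr_naturality _ _ _⟩

/-- The `R`-algebra map `R[x] → R[x]`, `x ↦ x^p`, is an elementary extension. -/
lemma expand_tower (R : Type u) [CommRing R] :
    Tower p 1 (CommRingCat.ofHom (expand R p : R[X] →ₐ[R] R[X]).toRingHom) := by
  let B := CommRingCat.of R[X]
  let q : R[X][X] := X ^ p - C X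
  let ψ : AdjoinRoot q →+* R[X] := AdjoinRoot.lift (expand R p : R[X] →ₐ[R] R[X]).toRingHom X (by
    simp [q])
  refine ⟨(X : R[X]), CommRingCat.ofHom ψ, ?_, ?_⟩
  · ext x
    · simp [ψ, q]
    · simp [ψ, q]
  · rw [tower_zero]
    let χ : R[X] →+* AdjoinRoot q := eval₂RingHom ((AdjoinRoot.of q).comp C) (AdjoinRoot.root q)
    have hroot : (AdjoinRoot.root q) ^ p = AdjoinRoot.of q X := by
      have := AdjoinRoot.eval₂_root q
      simpa [q, sub_eq_zero] using this
    have h1 : ψ.comp χ = RingHom.id _ := by
      apply Polynomial.ringHom_ext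
      · intro a
        simp [ψ, χ]
      · simp [ψ, χ]
    have h2 : χ.comp ψ = RingHom.id _ := by
      ext x
      · simp [ψ, χ]
      · simp [ψ, χ, hroot]
      · simp [ψ, χ]
    exact (RingEquiv.toCommRingCatIso (RingEquiv.ofRingHom ψ χ h1 h2)).isIso_hom

/-- The Frobenius of a polynomial ring. -/
lemma isPushout_polynomial {R S : CommRingCat.{u}} (φ : R ⟶ S) :
    IsPushout φ (CommRingCat.ofHom (C : R →+* R[X])) (CommRingCat.ofHom (C : S →+* S[X]))
      (CommRingCat.ofHom (Polynomial.mapRingHom φ.hom)) := by
  refine ⟨⟨?_⟩, ⟨PushoutCocone.IsColimit.mk _ (fun s => CommRingCat.ofHom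
    (Polynomial.eval₂RingHom s.inl.hom (s.inr.hom X))) ?_ ?_ ?_⟩⟩
  · ext x
    simp
  · intro s
    ext x
    simp
  · intro s
    ext x
    · have h := congr($(s.condition).hom x)
      simpa using h
    · simp
  · intro s m h1 h2
    ext x
    · have := congr($(h1).hom x)
      simpa using this
    · have := congr($(h2).hom X)
      simpa using this

lemma fr_tower_polynomial {n : ℕ} (R : Type u) [CommRing R] (hR : (p : R) = 0)
    (hR' : (p : R[X]) = 0) (h : Tower p n (fr p (CommRingCat.of R) hR)) :
    Tower p (n + 1) (fr p (CommRingCat.of R[X]) hR') := by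
  have h1 : Tower p n (CommRingCat.ofHom (Polynomial.mapRingHom (fr p (CommRingCat.of R) hR).hom)) := by
    exact h.of_isPushout (isPushout_polynomial _)
  have h2 := h1.comp (expand_tower (p := p) R)
  have h3 : fr p (CommRingCat.of R[X]) hR' =
      CommRingCat.ofHom (Polynomial.mapRingHom (fr p (CommRingCat.of R) hR).hom) ≫
        CommRingCat.ofHom (expand R p : R[X] →ₐ[R] R[X]).toRingHom := by
    apply CommRingCat.hom_ext
    apply Polynomial.ringHom_ext
    · intro a
      change (C a) ^ p = expand R p (Polynomial.map _ (C a))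
      rw [Polynomial.map_C, Polynomial.expand_C, ← C_pow]
      rfl
    · change X ^ p = expand R p (Polynomial.map _ X)
      rw [Polynomial.map_X, Polynomial.expand_X]
  rw [h3]
  exact h2

/-- The Frobenius of a polynomial ring in finitely many variables over a perfect field. -/
lemma fr_tower_mvPolynomial (k : Type u) [Field k] [CharP k p] [PerfectRing k p] (n : ℕ)
    (h : (p : MvPolynomial (Fin n) k) = 0) :
    Tower p n (fr p (CommRingCat.of (MvPolynomial (Fin n) k)) h) := by
  induction n with
  | zero =>
    have hk : (p : k) = 0 := CharP.cast_eq_zero k p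
    have h0 : Tower p 0 (fr p (CommRingCat.of k) hk) := by
      rw [tower_zero, ConcreteCategory.isIso_iff_bijective]
      exact PerfectRing.bijective_frobenius (R := k) (p := p)
    exact fr_tower_of_iso (RingEquiv.toCommRingCatIso
      (MvPolynomial.isEmptyRingEquiv k (Fin 0)).symm) hk h h0
  | succ n ih =>
    have h1 : (p : MvPolynomial (Fin n) k) = 0 := by
      have := congrArg (MvPolynomial.C (σ := Fin n)) (CharP.cast_eq_zero k p)
      simpa using this
    have h2 : (p : (MvPolynomial (Fin n) k)[X]) = 0 := by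
      have := congrArg Polynomial.C h1
      simpa using this
    exact fr_tower_of_iso (RingEquiv.toCommRingCatIso
      (MvPolynomial.finSuccEquiv k n).toRingEquiv.symm) h2 h
      (fr_tower_polynomial _ h1 h2 (ih h1))

end K841.Quiet
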