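import Groth.Agent.Quiet.K841.PthRoot
import Groth.Agent.S0075
import Mathlib.AlgebraicGeometry.Morphisms.Etale

/-!
# `p`-th root morphisms compose in characteristic `p`; quasi-etale morphisms
-/
set_option autoImplicit false
set_option linter.unusedVariables false

universe u

open CategoryTheory CategoryTheory.Limits AlgebraicGeometry Polynomial

namespace K841.Quiet

open _root_.Quiet

variable {p : ℕ}

/-- `p`-th root morphisms compose, over a base of characteristic `p`. -/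
theorem pthRoot_comp [Fact p.Prime] {X Y Z : Scheme.{u}} [FrobSch.IsCharP X p] {f : Y ⟶ X}
    {g : Z ⟶ Y} (hf : IsPthRoot p f) (hg : IsPthRoot p g) : IsPthRoot p (g ≫ f) := by
  have hp : p ≠ 0 := (Fact.out : p.Prime).ne_zero
  have h1 := pthRoot_surjective hp hf
  have h2 := pthRoot_isFinite hp hf
  have h3 := pthRoot_universallyInjective hf
  rw [isPthRoot_iff] at hf hg ⊢
  intro x
  obtain ⟨y, rfl⟩ := f.surjective x
  obtain ⟨U, hxU, hU, n, hn⟩ := hf (f y)
  obtain ⟨V, hyV, hV, m, hm⟩ := hg y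
  have hcl : IsClosed (f '' (V.1 : Set Y)ᶜ) := f.isClosedMap _ V.1.2.isClosed_compl
  have hyn : f y ∈ (f '' (V.1 : Set Y)ᶜ)ᶜ := by
    rintro ⟨y', hy', he⟩
    rw [f.injective he] at hy'
    exact hy' hyV
  obtain ⟨_, ⟨U', hU', rfl⟩, hyU', hle⟩ := X.isBasis_affineOpens.exists_subset_of_mem_open
    (show f y ∈ ((U.1 : Set X) ∩ (f '' (V.1 : Set Y)ᶜ)ᶜ) from ⟨hxU, hyn⟩)
    (U.1.2.inter hcl.isOpen_compl)
  have hle1 : U' ≤ U.1 := fun z hz => (hle hz).1
  have hle2 : f ⁻¹ᵁ U' ≤ V.1 := by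
    intro z hz
    by_contra hzV
    exact (hle hz).2 ⟨z, hzV, rfl⟩
  obtain ⟨a1, a2⟩ := tower_app_mono U.2 hU hU' hle1 hn
  obtain ⟨b1, b2⟩ := tower_app_mono V.2 hV a1 hle2 hm
  refine ⟨⟨U', hU'⟩, hyU', b1, n + m, ?_⟩
  rw [Scheme.Hom.comp_app]
  exact a2.comp b2

lemma pthRoot_iso_comp {X Y Z : Scheme.{u}} (e : Z ⟶ Y) [IsIso e] {f : Y ⟶ X}
    (hf : IsPthRoot p f) : IsPthRoot p (e ≫ f) :=
  pthRoot_of_isPullback (g := 𝟙 X) (g' := e) (IsPullback.of_horiz_isIso ⟨by simp⟩) hf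

/-- Quasi-etaleness in terms of arbitrary open immersions. -/
lemma isQuiet_iff {X Y : Scheme.{u}} (f : Y ⟶ X) : IsQuiet p f ↔
    ∀ y : Y, ∃ (V : Scheme.{u}) (j : V ⟶ Y) (Y' : Scheme.{u}) (r : V ⟶ Y') (e : Y' ⟶ X),
      IsOpenImmersion j ∧ y ∈ Set.range j ∧ IsPthRoot p r ∧ Etale e ∧ r ≫ e = j ≫ f := by
  constructor
  · intro h y
    obtain ⟨V, Y', r, e, h1, h2, h3, h4⟩ := h y
    exact ⟨V, V.ι, Y', r, e, inferInstance, by simpa using h1, h2, h3, h4⟩
  · intro h y
    obtain ⟨V, j, Y', r, e, h0, h1, h2, h3, h4⟩ := h y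
    refine ⟨j.opensRange, Y', j.isoOpensRange.inv ≫ r, e, h1, pthRoot_iso_comp _ h2, h3, ?_⟩
    rw [Category.assoc, h4, ← Category.assoc]
    congr 1
    simp

/-- Quasi-etale morphisms are stable under base change. -/
theorem isQuiet_of_isPullback {X Y X' Y' : Scheme.{u}} {f : Y ⟶ X} {g : X' ⟶ X} {f' : Y' ⟶ X'}
    {g' : Y' ⟶ Y} (H : IsPullback g' f' f g) (hf : IsQuiet p f) : IsQuiet p f' := by
  rw [isQuiet_iff] at hf ⊢
  intro y'
  obtain ⟨V, j, Z, r, e, h0, h1, h2, h3, h4⟩ := hf (g' y')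
  -- `V' = V ×_Y Y'`
  have hV : IsPullback (pullback.fst j g') (pullback.snd j g') j g' := IsPullback.of_hasPullback _ _
  have hV' : IsPullback (pullback.fst j g') (pullback.snd j g' ≫ f') (j ≫ f) g :=
    hV.flip.paste_horiz H.flip |>.flip
  rw [← h4] at hV'
  have hZ : IsPullback (pullback.fst e g) (pullback.snd e g) e g := IsPullback.of_hasPullback _ _
  let r' : pullback j g' ⟶ pullback e g := hZ.lift (pullback.fst j g' ≫ r) (pullback.snd j g' ≫ f')
    (by rw [Category.assoc]; exact hV'.w)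
  have e1 : r' ≫ pullback.fst e g = pullback.fst j g' ≫ r := hZ.lift_fst _ _ _
  have e2 : r' ≫ pullback.snd e g = pullback.snd j g' ≫ f' := hZ.lift_snd _ _ _
  have hr' : IsPullback (pullback.fst j g') r' r (pullback.fst e g) := by
    refine IsPullback.of_bot (v₂₁ := pullback.snd e g) (v₂₂ := e) (h₃₁ := g) ?_ e1.symm hZ
    rw [e2]
    exact hV'
  refine ⟨pullback j g', pullback.snd j g', pullback e g, r', pullback.snd e g, inferInstance, ?_,
    pthRoot_of_isPullback hr' h2, inferInstance, e2⟩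
  obtain ⟨v, hv⟩ := h1
  obtain ⟨w, -, hw⟩ := Scheme.Pullback.exists_preimage_pullback (f := j) (g := g') v y' hv
  exact ⟨w, hw⟩

/-- Étale morphisms descend along universal homeomorphisms. -/
lemma exists_etale_descent {V Y Z : Scheme.{u}} (r : V ⟶ Y) [IsIntegralHom r]
    [UniversallyInjective r] [Surjective r] (d : Z ⟶ V) [Etale d] :
    ∃ (Z' : Scheme.{u}) (h : Z ⟶ Z') (d' : Z' ⟶ Y), Etale d' ∧ IsPullback h d d' r := by
  have hE : (EtCoh.bc r).IsEquivalence := Groth.Agent.S0075.result r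
  let W : Y.Etale := (EtCoh.bc r).objPreimage (Scheme.Etale.mk d)
  let i : (EtCoh.bc r).obj W ≅ Scheme.Etale.mk d := (EtCoh.bc r).objObjPreimageIso _
  let i' : ((EtCoh.bc r).obj W).left ≅ Z := (Scheme.Etale.forget V ⋙ Over.forget V).mapIso i
  have hi' : i'.hom ≫ d = pullback.snd W.hom r := Over.w i.hom.hom
  refine ⟨W.left, i'.inv ≫ pullback.fst W.hom r, W.hom, W.prop, ?_⟩
  refine (IsPullback.of_hasPullback W.hom r).of_iso i' (Iso.refl _) (Iso.refl _) (Iso.refl _)
    ?_ ?_ ?_ ?_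
  · exact (Category.comp_id _).trans (Iso.hom_inv_id_assoc i' (pullback.fst W.hom r)).symm
  · exact (Category.comp_id _).trans hi'.symm
  · simp
  · simp

/-- Quasi-etale morphisms compose in characteristic `p`. -/
theorem isQuiet_comp [Fact p.Prime] {X Y Z : Scheme.{u}} [FrobSch.IsCharP X p]
    {f : Y ⟶ X} {g : Z ⟶ Y} (hf : IsQuiet p f) (hg : IsQuiet p g) : IsQuiet p (g ≫ f) := by
  have hp : p ≠ 0 := (Fact.out : p.Prime).ne_zero
  rw [isQuiet_iff] at hf hg ⊢
  intro z
  obtain ⟨V, j, Y', r, e, h0, h1, h2, h3, h4⟩ := hf (g z)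
  obtain ⟨W, k, Z', s, d, k0, k1, k2, k3, k4⟩ := hg z
  have cY' : FrobSch.IsCharP Y' p := FrobSch.IsCharP.of_hom e p
  have i1 := pthRoot_surjective hp h2
  have i2 := pthRoot_isFinite hp h2
  have i3 := pthRoot_universallyInjective h2
  -- restrict `Z' ⟶ Y` to `V`
  have H1 : IsPullback (pullback.fst d j) (pullback.snd d j) d j := IsPullback.of_hasPullback _ _
  obtain ⟨Z'', h, d', h5, h6⟩ := exists_etale_descent r (pullback.snd d j)
  have cZ'' : FrobSch.IsCharP Z'' p := FrobSch.IsCharP.of_hom d' p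
  have h7 : IsPthRoot p h := pthRoot_of_isPullback h6.flip h2
  -- restrict `W ⟶ Z'` to `Z'_V`
  have H2 : IsPullback (pullback.fst s (pullback.fst d j)) (pullback.snd s (pullback.fst d j)) s
    (pullback.fst d j) := IsPullback.of_hasPullback _ _
  have h8 : IsPthRoot p (pullback.snd s (pullback.fst d j)) := pthRoot_of_isPullback H2 k2
  refine ⟨pullback s (pullback.fst d j), pullback.fst s (pullback.fst d j) ≫ k, Z'',
    pullback.snd s (pullback.fst d j) ≫ h, d' ≫ e, inferInstance, ?_, pthRoot_comp h7 h8,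
    inferInstance, ?_⟩
  · obtain ⟨w, hw⟩ := k1
    obtain ⟨v, hv⟩ := h1
    have hdv : d (s w) = j v := by
      rw [hv, ← hw, ← Scheme.Hom.comp_apply, ← Scheme.Hom.comp_apply, k4]
    obtain ⟨w₁, hw₁, -⟩ := Scheme.Pullback.exists_preimage_pullback (f := d) (g := j) (s w) v hdv
    obtain ⟨w₂, hw₂, -⟩ := Scheme.Pullback.exists_preimage_pullback (f := s)
      (g := pullback.fst d j) w w₁ hw₁.symm
    refine ⟨w₂, ?_⟩
    rw [Scheme.Hom.comp_apply, hw₂, hw]
  · calc (pullback.snd s (pullback.fst d j) ≫ h) ≫ d' ≫ e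
        = pullback.snd s (pullback.fst d j) ≫ (h ≫ d') ≫ e := by simp only [Category.assoc]
      _ = pullback.snd s (pullback.fst d j) ≫ pullback.snd d j ≫ (r ≫ e) := by
          rw [h6.w]; simp only [Category.assoc]
      _ = pullback.snd s (pullback.fst d j) ≫ (pullback.snd d j ≫ j) ≫ f := by
          rw [h4]; simp only [Category.assoc]
      _ = (pullback.snd s (pullback.fst d j) ≫ pullback.fst d j) ≫ d ≫ f := by
          rw [← pullback.condition (f := d) (g := j)]; simp only [Category.assoc]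
      _ = (pullback.fst s (pullback.fst d j) ≫ s) ≫ d ≫ f := by
          rw [pullback.condition (f := s)]
      _ = pullback.fst s (pullback.fst d j) ≫ (s ≫ d) ≫ f := by simp only [Category.assoc]
      _ = (pullback.fst s (pullback.fst d j) ≫ k) ≫ g ≫ f := by
          rw [k4]; simp only [Category.assoc]

end K841.Quiet
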