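import Groth.Agent.Quiet.K841.Tower
import Groth.Prelude.Def_Frob
import Mathlib.AlgebraicGeometry.Morphisms.Flat
import Mathlib.AlgebraicGeometry.Morphisms.Integral
import Mathlib.AlgebraicGeometry.Morphisms.UniversallyInjective
import Mathlib.RingTheory.RingHom.FaithfullyFlat
import Mathlib.RingTheory.RingHom.FinitePresentation
import Mathlib.RingTheory.RingHom.Finite

/-!
# `p`-th root morphisms: base change, composition, universal homeomorphism
-/
set_option autoImplicit false
set_option linter.unusedVariables false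

universe u

open CategoryTheory CategoryTheory.Limits AlgebraicGeometry Polynomial

namespace K841.Quiet

open _root_.Quiet

section ring

variable {p : ℕ}

lemma monic_root (hp : p ≠ 0) {A : Type u} [CommRing A] (a : A) : (X ^ p - C a : A[X]).Monic :=
  Polynomial.monic_X_pow_sub_C a hp

lemma rootMap_finite (hp : p ≠ 0) (A : CommRingCat.{u}) (a : A) : (rootMap p A a).hom.Finite := by
  have := (monic_root hp a).finite_adjoinRoot
  exact RingHom.finite_algebraMap.2 this

lemma rootMap_faithfullyFlat (hp : p ≠ 0) (A : CommRingCat.{u}) (a : A) :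
    (rootMap p A a).hom.FaithfullyFlat := by
  rcases subsingleton_or_nontrivial A with hA | hA
  · have : Subsingleton (RootRing p A a) := (algebraMap A (RootRing p A a)).codomain_trivial
    exact RingHom.FaithfullyFlat.of_bijective
      ⟨Function.injective_of_subsingleton _, fun x => ⟨0, Subsingleton.elim _ _⟩⟩
  · have h1 := (monic_root hp a).free_adjoinRoot
    have h2 : Nontrivial (RootRing p A a) := by
      have e := (AdjoinRoot.powerBasis' (monic_root hp a)).basis
      rw [AdjoinRoot.powerBasis'_dim, Polynomial.natDegree_X_pow_sub_C] at e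
      have : Nonempty (Fin p) := ⟨⟨0, Nat.pos_of_ne_zero hp⟩⟩
      exact e.repr.toEquiv.nontrivial
    exact (RingHom.faithfullyFlat_algebraMap_iff).2 (inferInstance)

lemma rootMap_finitePresentation (hp : p ≠ 0) (A : CommRingCat.{u}) (a : A) :
    (rootMap p A a).hom.FinitePresentation := by
  exact (RingHom.finitePresentation_algebraMap).2 (AdjoinRoot.finitePresentation _)

lemma Tower.finite (hp : p ≠ 0) {n : ℕ} {A B : CommRingCat.{u}} {φ : A ⟶ B} (h : Tower p n φ) :
    φ.hom.Finite := by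
  induction n generalizing A B with
  | zero =>
    rw [tower_zero] at h
    exact RingHom.Finite.of_surjective _ ((ConcreteCategory.isIso_iff_bijective φ).1 h).2
  | succ n ih =>
    obtain ⟨a, ψ, rfl, h2⟩ := h
    exact (ih h2).comp (rootMap_finite hp A a)

lemma Tower.faithfullyFlat (hp : p ≠ 0) {n : ℕ} {A B : CommRingCat.{u}} {φ : A ⟶ B}
    (h : Tower p n φ) : φ.hom.FaithfullyFlat := by
  induction n generalizing A B with
  | zero =>
    rw [tower_zero] at h
    exact RingHom.FaithfullyFlat.of_bijective ((ConcreteCategory.isIso_iff_bijective φ).1 h)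
  | succ n ih =>
    obtain ⟨a, ψ, rfl, h2⟩ := h
    exact RingHom.FaithfullyFlat.stableUnderComposition _ _ (rootMap_faithfullyFlat hp A a) (ih h2)

lemma Tower.finitePresentation (hp : p ≠ 0) {n : ℕ} {A B : CommRingCat.{u}} {φ : A ⟶ B}
    (h : Tower p n φ) : φ.hom.FinitePresentation := by
  induction n generalizing A B with
  | zero =>
    rw [tower_zero] at h
    exact RingHom.FinitePresentation.of_bijective ((ConcreteCategory.isIso_iff_bijective φ).1 h)
  | succ n ih =>
    obtain ⟨a, ψ, rfl, h2⟩ := h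
    exact (ih h2).comp (rootMap_finitePresentation hp A a)

lemma eq_of_pow_eq {K : Type u} [Field K] [Fact p.Prime] (hK : (p : K) = 0) {x y : K}
    (h : x ^ p = y ^ p) : x = y := by
  have : CharP K p := by
    obtain ⟨q, hq⟩ := CharP.exists K
    have h1 : q ∣ p := (CharP.cast_eq_zero_iff K q p).1 hK
    rcases (Nat.dvd_prime (Fact.out : p.Prime)).1 h1 with h2 | h2
    · subst h2
      exact absurd ((CharP.cast_eq_zero_iff K 1 1).2 (dvd_refl 1)) (by rw [Nat.cast_one]; exact one_ne_zero)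
    · exact h2 ▸ hq
  exact frobenius_inj K p h

lemma Tower.hom_ext [Fact p.Prime] {n : ℕ} {A B : CommRingCat.{u}} {φ : A ⟶ B} (h : Tower p n φ)
    (hA : (p : A) = 0) {K : Type u} [Field K] {g g' : B ⟶ CommRingCat.of K}
    (hg : φ ≫ g = φ ≫ g') : g = g' := by
  induction n generalizing A B with
  | zero =>
    rw [tower_zero] at h
    exact (cancel_epi φ).1 hg
  | succ n ih =>
    obtain ⟨a, ψ, rfl, h2⟩ := h
    have hB : (p : RootRing p A a) = 0 := by
      have := congrArg (AdjoinRoot.of (X ^ p - C a : A[X])) hA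
      simpa using this
    refine ih h2 hB ?_
    rw [Category.assoc, Category.assoc] at hg
    have hK : (p : K) = 0 := by
      have := congrArg (rootMap p A a ≫ ψ ≫ g).hom hA
      simpa using this
    have hroot : (AdjoinRoot.root (X ^ p - C a : A[X])) ^ p = AdjoinRoot.of _ a := by
      have := AdjoinRoot.eval₂_root (X ^ p - C a : A[X])
      simpa [sub_eq_zero] using this
    ext x
    · exact congr($(hg).hom x)
    · change (ψ ≫ g).hom (AdjoinRoot.root _) = (ψ ≫ g').hom (AdjoinRoot.root _)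
      refine eq_of_pow_eq (p := p) hK ?_
      rw [← map_pow, ← map_pow, hroot]
      exact congr($(hg).hom a)

end ring

variable {p : ℕ}

lemma isPthRoot_iff {Y X : Scheme.{u}} (f : Y ⟶ X) :
    IsPthRoot p f ↔ ∀ x : X, ∃ U : X.affineOpens, x ∈ U.1 ∧ IsAffineOpen (f ⁻¹ᵁ U.1) ∧
      ∃ n : ℕ, Tower p n (f.app U.1) := by
  refine forall_congr' fun x => exists_congr fun U => and_congr Iff.rfl (and_congr Iff.rfl ?_)
  exact exists_congr fun n => isRootTower_iff p n _ _ (f.app U.1)

lemma pthRoot_isAffineHom {Y X : Scheme.{u}} {f : Y ⟶ X} (h : IsPthRoot p f) : IsAffineHom f :=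
  isAffineHom_of_forall_exists_isAffineOpen f fun x => by
    obtain ⟨U, hU, hU', -⟩ := h x
    exact ⟨U.1, hU, U.2, hU'⟩

/-- Base change of towers for sections over affine opens. -/
lemma tower_app_of_isPullback {n : ℕ} {X Y X' Y' : Scheme.{u}} {f : Y ⟶ X} {g : X' ⟶ X}
    {f' : Y' ⟶ X'} {g' : Y' ⟶ Y} (H : IsPullback g' f' f g) {U : X.Opens} (hU : IsAffineOpen U)
    (hfU : IsAffineOpen (f ⁻¹ᵁ U)) {U' : X'.Opens} (hU' : IsAffineOpen U') (hle : U' ≤ g ⁻¹ᵁ U)
    (ht : Tower p n (f.app U)) : IsAffineOpen (f' ⁻¹ᵁ U') ∧ Tower p n (f'.app U') := by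
  have hUY : f' ⁻¹ᵁ U' = g' ⁻¹ᵁ (f ⁻¹ᵁ U) ⊓ f' ⁻¹ᵁ U' := by
    symm
    rw [inf_eq_right, ← Scheme.Hom.comp_preimage, H.w, Scheme.Hom.comp_preimage]
    exact f'.preimage_mono hle
  constructor
  · have : IsAffine _ := hU
    have : IsAffine _ := hU'
    have : IsAffine _ := hfU
    exact .of_isIso (Scheme.Hom.isPullback_resLE H hle le_rfl hUY).isoPullback.hom
  · have h1 := (isIso_pushoutSection_iff H hle le_rfl hUY).1
      (isIso_pushoutSection_of_isAffineOpen H hle le_rfl hUY hU hU' hfU)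
    rw [← Scheme.Hom.app_eq_appLE] at h1
    have h2 := Tower.of_isPushout h1 ht
    rw [← Scheme.Hom.app_eq_appLE] at h2
    exact h2

lemma tower_app_mono {n : ℕ} {X Y : Scheme.{u}} {f : Y ⟶ X} {U : X.Opens} (hU : IsAffineOpen U)
    (hfU : IsAffineOpen (f ⁻¹ᵁ U)) {U' : X.Opens} (hU' : IsAffineOpen U') (hle : U' ≤ U)
    (ht : Tower p n (f.app U)) : IsAffineOpen (f ⁻¹ᵁ U') ∧ Tower p n (f.app U') :=
  tower_app_of_isPullback (IsPullback.of_id_fst (f := f)).flip.flip hU hfU hU'
    (by simpa using hle) ht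

/-- `p`-th root morphisms are stable under base change. -/
theorem pthRoot_of_isPullback {X Y X' Y' : Scheme.{u}} {f : Y ⟶ X} {g : X' ⟶ X}
    {f' : Y' ⟶ X'} {g' : Y' ⟶ Y} (H : IsPullback g' f' f g) (h : IsPthRoot p f) :
    IsPthRoot p f' := by
  rw [isPthRoot_iff] at h ⊢
  intro x'
  obtain ⟨U, hxU, hU, n, hn⟩ := h (g x')
  obtain ⟨_, ⟨U', hU', rfl⟩, hx', hle⟩ := X'.isBasis_affineOpens.exists_subset_of_mem_open
    (show x' ∈ (g ⁻¹ᵁ U.1 : Set X') from hxU) (g ⁻¹ᵁ U.1).2
  obtain ⟨h1, h2⟩ := tower_app_of_isPullback H U.2 hU hU' hle hn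
  exact ⟨⟨U', hU'⟩, hx', h1, n, h2⟩

lemma pthRoot_of_isIso {X Y : Scheme.{u}} (f : Y ⟶ X) [IsIso f] : IsPthRoot p f := by
  rw [isPthRoot_iff]
  intro x
  obtain ⟨_, ⟨U, hU, rfl⟩, hx, -⟩ := X.isBasis_affineOpens.exists_subset_of_mem_open
    (Set.mem_univ x) isOpen_univ
  refine ⟨⟨U, hU⟩, hx, hU.preimage_of_isIso f, 0, ?_⟩
  rw [tower_zero]
  infer_instance

/-- Checking a property local on the target for `p`-th root morphisms. -/
lemma pthRoot_of_tower {P : MorphismProperty Scheme.{u}} [IsZariskiLocalAtTarget P]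
    {X Y : Scheme.{u}} {f : Y ⟶ X} (h : IsPthRoot p f)
    (hP : ∀ (U : X.Opens) (n : ℕ) (A B : CommRingCat.{u}) (φ : A ⟶ B) (e : Γ(X, U) ⟶ A),
      Tower p n φ → P (Spec.map φ)) : P f := by
  rw [isPthRoot_iff] at h
  choose U hxU hU n hn using h
  rw [IsZariskiLocalAtTarget.iff_of_iSup_eq_top (P := P) (fun x => (U x).1) (by
    rw [eq_top_iff]
    intro x _
    exact TopologicalSpace.Opens.mem_iSup.2 ⟨x, hxU x⟩)]
  intro x
  have hA1 : IsAffine ((U x).1 : Scheme.{u}) := (U x).2
  have hA2 : IsAffine ((f ⁻¹ᵁ (U x).1 : Y.Opens) : Scheme.{u}) := hU x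
  rw [P.arrow_mk_iso_iff (arrowIsoSpecΓOfIsAffine (f ∣_ (U x).1))]
  have h1 := (tower_app_of_isPullback (isPullback_morphismRestrict f (U x).1).flip (U x).2 (hU x)
    (isAffineOpen_top ((U x).1 : Scheme.{u})) (by
      intro y _
      exact y.2) (hn x)).2
  exact hP (U x).1 (n x) _ _ _ ((U x).1.ι.appLE (U x).1 ⊤ (by intro y _; exact y.2)) h1

lemma pthRoot_surjective (hp : p ≠ 0) {X Y : Scheme.{u}} {f : Y ⟶ X} (h : IsPthRoot p f) :
    Surjective f := by
  refine pthRoot_of_tower h (P := @Surjective) fun U n A B φ e ht => ?_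
  exact (flat_and_surjective_SpecMap_iff φ).2 (ht.faithfullyFlat hp) |>.2

lemma pthRoot_flat (hp : p ≠ 0) {X Y : Scheme.{u}} {f : Y ⟶ X} (h : IsPthRoot p f) :
    Flat f := by
  refine pthRoot_of_tower h (P := @Flat) fun U n A B φ e ht => ?_
  exact (flat_and_surjective_SpecMap_iff φ).2 (ht.faithfullyFlat hp) |>.1

lemma pthRoot_isFinite (hp : p ≠ 0) {X Y : Scheme.{u}} {f : Y ⟶ X} (h : IsPthRoot p f) :
    IsFinite f := by
  refine pthRoot_of_tower h (P := @IsFinite) fun U n A B φ e ht => ?_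
  exact (IsFinite.SpecMap_iff φ).2 (ht.finite hp)

lemma pthRoot_universallyInjective [Fact p.Prime] {X Y : Scheme.{u}} [FrobSch.IsCharP X p]
    {f : Y ⟶ X} (h : IsPthRoot p f) : UniversallyInjective f := by
  refine pthRoot_of_tower h (P := @UniversallyInjective) fun U n A B φ e ht => ?_
  have hA : (p : A) = 0 := by
    have := congrArg e.hom (FrobSch.natCast_eq_zero_app X p U)
    simpa using this
  refine ((tfae_universallyInjective (Spec.map φ)).out 0 1).2 ?_
  intro K instK g g' hg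
  obtain ⟨γ, rfl⟩ := Spec.map_surjective g
  obtain ⟨γ', rfl⟩ := Spec.map_surjective g'
  beta_reduce at hg
  rw [← Spec.map_comp, ← Spec.map_comp] at hg
  have h3 : γ = γ' := Tower.hom_ext (K := K) ht hA (Spec.map_injective hg)
  rw [h3]

end K841.Quiet
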