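import Groth.Agent.Quiet.K841.Frob
import Groth.Agent.Quiet.K841.PthRoot
import Mathlib.RingTheory.Unramified.LocalStructure

/-!
# The Frobenius of a smooth algebra over a perfect field is a `p`-th root morphism
-/
set_option autoImplicit false
set_option linter.unusedVariables false

universe u

open CategoryTheory CategoryTheory.Limits AlgebraicGeometry Polynomial

namespace K841.Quiet

open _root_.Quiet

/-- Being a `p`-th root morphism is local on the target. -/
theorem isPthRoot_of_cover {p : ℕ} {X Y : Scheme.{u}} {f : Y ⟶ X}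
    (h : ∀ x : X, ∃ (U W : Scheme.{u}) (j : U ⟶ X) (j' : W ⟶ Y) (f' : W ⟶ U),
      IsOpenImmersion j ∧ x ∈ Set.range j ∧ IsPullback j' f' f j ∧ IsPthRoot p f') :
    IsPthRoot p f := by
  rw [isPthRoot_iff]
  intro x
  obtain ⟨U, W, j, j', f', h0, ⟨u, rfl⟩, H, h2⟩ := h x
  rw [isPthRoot_iff] at h2
  obtain ⟨U₀, hu, hW, n, hn⟩ := h2 u
  have hj' : IsOpenImmersion j' := MorphismProperty.of_isPullback H.flip inferInstance
  have haff : IsAffineOpen (j ''ᵁ U₀.1) := U₀.2.image_of_isOpenImmersion j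
  have hpre : f ⁻¹ᵁ (j ''ᵁ U₀.1) = j' ''ᵁ (f' ⁻¹ᵁ U₀.1) := by
    ext y
    constructor
    · rintro ⟨v, hv, hvy⟩
      obtain ⟨w, hw1, hw2⟩ := Scheme.Pullback.exists_preimage_pullback (f := f) (g := j) y v hvy.symm
      refine ⟨H.isoPullback.inv w, ?_, ?_⟩
      · change f' (H.isoPullback.inv w) ∈ U₀.1
        rw [← Scheme.Hom.comp_apply, H.isoPullback_inv_snd, hw2]
        exact hv
      · change j' (H.isoPullback.inv w) = y
        rw [← Scheme.Hom.comp_apply, H.isoPullback_inv_fst, hw1]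
    · rintro ⟨w, hw, rfl⟩
      refine ⟨f' w, hw, ?_⟩
      change j (f' w) = f (j' w)
      rw [← Scheme.Hom.comp_apply, ← Scheme.Hom.comp_apply, H.w]
  have haff' : IsAffineOpen (f ⁻¹ᵁ (j ''ᵁ U₀.1)) := by
    rw [hpre]
    exact hW.image_of_isOpenImmersion j'
  refine ⟨⟨j ''ᵁ U₀.1, haff⟩, ⟨u, hu, rfl⟩, haff', n, ?_⟩
  have hUST : U₀.1 ≤ j ⁻¹ᵁ (j ''ᵁ U₀.1) := by rw [Scheme.Hom.preimage_image_eq]
  have hUY : f' ⁻¹ᵁ U₀.1 = j' ⁻¹ᵁ (f ⁻¹ᵁ (j ''ᵁ U₀.1)) ⊓ f' ⁻¹ᵁ U₀.1 := by
    rw [hpre, Scheme.Hom.preimage_image_eq, inf_idem]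
  have h1 := (isIso_pushoutSection_iff H hUST le_rfl hUY).1
      (isIso_pushoutSection_of_isAffineOpen H hUST le_rfl hUY haff U₀.2 haff')
  rw [← Scheme.Hom.app_eq_appLE, ← Scheme.Hom.app_eq_appLE] at h1
  have hi1 : IsIso (j.appLE (j ''ᵁ U₀.1) U₀.1 hUST) := by
    rw [← Scheme.Hom.appIso_hom']
    infer_instance
  have hle : f' ⁻¹ᵁ U₀.1 ≤ j' ⁻¹ᵁ (f ⁻¹ᵁ (j ''ᵁ U₀.1)) := hUY.le.trans inf_le_left
  have hi2 : IsIso (j'.appLE (f ⁻¹ᵁ (j ''ᵁ U₀.1)) (f' ⁻¹ᵁ U₀.1) hle) :=
    h1.isIso_inl_of_isIso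
  refine hn.of_isPushout (α := inv (j.appLE (j ''ᵁ U₀.1) U₀.1 hUST)) (β := inv
    (j'.appLE (f ⁻¹ᵁ (j ''ᵁ U₀.1)) (f' ⁻¹ᵁ U₀.1) hle)) ?_
  refine IsPushout.of_vert_isIso ⟨?_⟩
  rw [IsIso.comp_inv_eq, Category.assoc, IsIso.eq_inv_comp]
  exact h1.w.symm

lemma isPthRoot_specMap {p n : ℕ} {A B : CommRingCat.{u}} {φ : A ⟶ B} (h : Tower p n φ) :
    IsPthRoot p (Spec.map φ) := by
  rw [isPthRoot_iff]
  intro x
  refine ⟨⟨⊤, isAffineOpen_top _⟩, trivial, isAffineOpen_top (Spec B), n, ?_⟩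
  refine h.of_isPushout (α := (Scheme.ΓSpecIso A).inv) (β := (Scheme.ΓSpecIso B).inv) ?_
  exact IsPushout.of_vert_isIso ⟨(Scheme.ΓSpecIso_inv_naturality φ)⟩

/-- The Frobenius of a smooth algebra over a perfect field is a `p`-th root morphism. -/
theorem isPthRoot_fr_of_smooth (p : ℕ) [Fact p.Prime]
    (k : Type u) [Field k] [CharP k p] [PerfectRing k p] (A : Type u) [CommRing A] [Algebra k A]
    [Algebra.Smooth k A] (hA : (p : A) = 0) :
    IsPthRoot p (Spec.map (fr p (CommRingCat.of A) hA)) := by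
  refine isPthRoot_of_cover fun x => ?_
  obtain ⟨f, hf, n, i1, i2, i3⟩ := Algebra.IsSmoothAt.exists_isStandardEtale_mvPolynomial
    (R := k) (p := (show PrimeSpectrum A from x).asIdeal)
  have hAf : (p : Localization.Away f) = 0 := by
    have := congrArg (algebraMap A (Localization.Away f)) hA
    simpa using this
  have hP : (p : MvPolynomial (Fin n) k) = 0 := by
    have := congrArg (MvPolynomial.C (σ := Fin n)) (CharP.cast_eq_zero k p)
    simp
  have h1 : IsPushout (fr p (CommRingCat.of A) hA) (CommRingCat.ofHom (algebraMap A (Localization.Away f)))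
      (CommRingCat.ofHom (algebraMap A (Localization.Away f)))
      (fr p (CommRingCat.of (Localization.Away f)) hAf) := by
    refine isPushout_fr_of_etale _ ?_ _ _
    exact RingHom.etale_algebraMap.2 (Algebra.Etale.of_isLocalizationAway f)
  have h2 : IsPushout (fr p (CommRingCat.of (MvPolynomial (Fin n) k)) hP)
      (CommRingCat.ofHom (algebraMap (MvPolynomial (Fin n) k) (Localization.Away f)))
      (CommRingCat.ofHom (algebraMap (MvPolynomial (Fin n) k) (Localization.Away f)))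
      (fr p (CommRingCat.of (Localization.Away f)) hAf) := by
    refine isPushout_fr_of_etale _ ?_ _ _
    exact RingHom.etale_algebraMap.2 inferInstance
  have h3 := (fr_tower_mvPolynomial k n hP).of_isPushout h2
  refine ⟨Spec (CommRingCat.of (Localization.Away f)), Spec (CommRingCat.of (Localization.Away f)),
    Spec.map (CommRingCat.ofHom (algebraMap A (Localization.Away f))),
    Spec.map (CommRingCat.ofHom (algebraMap A (Localization.Away f))),
    Spec.map (fr p (CommRingCat.of (Localization.Away f)) hAf), ?_, ?_,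
    isPullback_SpecMap_of_isPushout _ _ _ _ h1, isPthRoot_specMap h3⟩
  · exact Scheme.isOpenImmersion_SpecMap_localizationAway (R := CommRingCat.of A) f
  · have h4 : x ∈ (Spec.map <| CommRingCat.ofHom <| algebraMap (CommRingCat.of A)
      (Localization.Away f)).opensRange := by
      rw [Scheme.Hom.opensRange_localizationAway]
      exact hf
    exact h4


theorem isPthRoot_frobenius_of_smooth (p : ℕ) [Fact p.Prime]
    (k : Type u) [Field k] [CharP k p] [PerfectRing k p] (A : Type u) [CommRing A] [Algebra k A]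
    [CharP A p] [Algebra.Smooth k A] :
    IsPthRoot p (Spec.map (CommRingCat.ofHom (frobenius A p))) :=
  isPthRoot_fr_of_smooth p k A (CharP.cast_eq_zero A p)

theorem faithfullyFlat_of_isPthRoot {p : ℕ} (hp : p ≠ 0) {A B : CommRingCat.{u}} {φ : A ⟶ B}
    (h : IsPthRoot p (Spec.map φ)) : φ.hom.FaithfullyFlat :=
  (flat_and_surjective_SpecMap_iff φ).1 ⟨pthRoot_flat hp h, pthRoot_surjective hp h⟩

theorem main_46 (p : ℕ) [Fact p.Prime]
    (k : Type u) [Field k] [CharP k p] [PerfectRing k p] (A : Type u) [CommRing A] [Algebra k A]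
    [CharP A p] [Algebra.Smooth k A] :
    (frobenius A p).FaithfullyFlat ∧
      IsPthRoot p (Spec.map (CommRingCat.ofHom (frobenius A p))) := by
  have h := isPthRoot_frobenius_of_smooth p k A
  exact ⟨faithfullyFlat_of_isPthRoot (Fact.out : p.Prime).ne_zero h, h⟩

end K841.Quiet
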