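import Groth.Agent.Quiet.K841.Tower
import Mathlib.RingTheory.Etale.StandardEtale
import Mathlib.RingTheory.Unramified.LocalStructure
import Mathlib.RingTheory.Polynomial.Basic
import Mathlib.RingTheory.Ideal.Maps

/-!
# Presentations with as many relations as variables
-/
set_option autoImplicit false
set_option linter.unusedVariables false

universe u

open CategoryTheory CategoryTheory.Limits AlgebraicGeometry Polynomial

namespace K841.Quiet

open _root_.Quiet

/-- `S` has a presentation over `k` with as many relations as variables. -/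
def HasPres {k S : Type u} [CommRing k] [CommRing S] (f : k →+* S) (n : ℕ) : Prop :=
  ∃ (φ : MvPolynomial (Fin n) k →+* S) (r : Fin n → MvPolynomial (Fin n) k),
    φ.comp MvPolynomial.C = f ∧ Function.Surjective φ ∧ RingHom.ker φ = Ideal.span (Set.range r)

lemma HasPres.comp_bijective {k S T : Type u} [CommRing k] [CommRing S] [CommRing T] {f : k →+* S}
    {n : ℕ} (h : HasPres f n) (e : S →+* T) (he : Function.Bijective e) : HasPres (e.comp f) n := by
  obtain ⟨φ, r, h1, h2, h3⟩ := h
  refine ⟨e.comp φ, r, by rw [RingHom.comp_assoc, h1], he.2.comp h2, ?_⟩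
  rw [RingHom.ker_comp_of_injective _ he.1, h3]

lemma ker_comp_eq_sup {R S T : Type*} [CommRing R] [CommRing S] [CommRing T] (f : R →+* S)
    (hf : Function.Surjective f) (g : S →+* T) (b : R) (h : RingHom.ker g = Ideal.span {f b}) :
    RingHom.ker (g.comp f) = RingHom.ker f ⊔ Ideal.span {b} := by
  have h1 : RingHom.ker (g.comp f) = (RingHom.ker g).comap f := by
    ext x
    simp [RingHom.mem_ker, Ideal.mem_comap]
  have h2 : Ideal.span {f b} = (Ideal.span {b}).map f := by
    rw [Ideal.map_span, Set.image_singleton]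
  rw [h1, h, h2, Ideal.comap_map_of_surjective f hf, sup_comm]
  rfl

lemma HasPres.root {p : ℕ} {k S : Type u} [CommRing k] [CommRing S] {f : k →+* S}
    {n : ℕ} (h : HasPres f n) (a : S) :
    HasPres ((AdjoinRoot.of (X ^ p - C a : S[X])).comp f) (n + 1) := by
  obtain ⟨φ, r, h1, h2, h3⟩ := h
  obtain ⟨b, hb⟩ := h2 a
  let e := MvPolynomial.finSuccEquiv k n
  let q : (MvPolynomial (Fin n) k)[X] := X ^ p - C b
  have hq : mapRingHom φ q = X ^ p - C a := by simp [q, hb]
  have hker : RingHom.ker (AdjoinRoot.mk (X ^ p - C a : S[X])) = Ideal.span {mapRingHom φ q} := by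
    rw [hq]
    exact Ideal.mk_ker
  have hk2 := ker_comp_eq_sup (mapRingHom φ) (Polynomial.map_surjective _ h2) _ q hker
  refine ⟨(((AdjoinRoot.mk (X ^ p - C a : S[X])).comp (mapRingHom φ))).comp (e : _ →+* _),
    Fin.cons (e.symm q) (fun i => e.symm (C (r i))), ?_, ?_, ?_⟩
  · ext x
    simp [e, MvPolynomial.finSuccEquiv_apply, ← h1]
  · exact (AdjoinRoot.mk_surjective.comp (Polynomial.map_surjective _ h2)).comp e.surjective
  · have h4 : RingHom.ker (((AdjoinRoot.mk (X ^ p - C a : S[X])).comp (mapRingHom φ)).comp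
        (e : MvPolynomial (Fin (n + 1)) k →+* (MvPolynomial (Fin n) k)[X])) =
        (RingHom.ker ((AdjoinRoot.mk (X ^ p - C a : S[X])).comp (mapRingHom φ))).map
          (e.symm : (MvPolynomial (Fin n) k)[X] →+* MvPolynomial (Fin (n + 1)) k) := by
      apply le_antisymm
      · intro x hx
        have : x = e.symm (e x) := (e.symm_apply_apply x).symm
        rw [this]
        exact Ideal.mem_map_of_mem _ hx
      · rw [Ideal.map_le_iff_le_comap]
        intro x hx
        rw [Ideal.mem_comap, RingHom.mem_ker, RingHom.comp_apply]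
        have : (e : MvPolynomial (Fin (n + 1)) k →+* (MvPolynomial (Fin n) k)[X])
          ((e.symm : (MvPolynomial (Fin n) k)[X] →+* MvPolynomial (Fin (n + 1)) k) x) = x :=
          e.apply_symm_apply x
        rw [this]
        exact hx
    rw [h4, hk2, Polynomial.ker_mapRingHom, h3, Ideal.map_span, ← Ideal.span_union, Ideal.map_span]
    congr 1
    ext x
    constructor
    · rintro ⟨y, (⟨_, ⟨i, rfl⟩, rfl⟩ | hy), rfl⟩
      · exact ⟨i.succ, by simp⟩
      · rw [Set.mem_singleton_iff] at hy
        subst hy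
        exact ⟨0, by simp⟩
    · rintro ⟨i, rfl⟩
      refine Fin.cases ?_ (fun i => ?_) i
      · exact ⟨q, Or.inr rfl, by simp⟩
      · exact ⟨C (r i), Or.inl ⟨r i, ⟨i, rfl⟩, rfl⟩, by simp⟩

lemma Tower.hasPres {p m : ℕ} {k : Type u} [CommRing k] {A B : CommRingCat.{u}} {φ : A ⟶ B}
    (h : Tower p m φ) {f : k →+* A} {n : ℕ} (hf : HasPres f n) :
    HasPres (φ.hom.comp f) (n + m) := by
  induction m generalizing A B n with
  | zero =>
    rw [tower_zero] at h
    exact hf.comp_bijective _ ((ConcreteCategory.isIso_iff_bijective φ).1 h)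
  | succ m ih =>
    obtain ⟨a, ψ, rfl, h2⟩ := h
    have := ih h2 (hf.root (p := p) a)
    rw [Nat.add_right_comm] at this
    exact this

lemma hasPres_of_isStandardEtale (R S : Type u) [CommRing R] [CommRing S] [Algebra R S]
    [h : Algebra.IsStandardEtale R S] : HasPres (algebraMap R S) 2 := by
  obtain ⟨⟨P⟩⟩ := h
  let Q := P.toPresentation
  refine ⟨(MvPolynomial.aeval Q.val).toRingHom, Q.relation, ?_, ?_, ?_⟩
  · ext x
    simp
  · exact Q.aeval_val_surjective
  · have := Q.span_range_relation_eq_ker
    rw [this]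
    rfl

end K841.Quiet
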