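import Groth.Agent.Quiet.K841.FrobSmooth
import Mathlib.RingTheory.Regular.Flat
import Mathlib.RingTheory.Smooth.Basic
import Mathlib.RingTheory.Smooth.Flat
import Groth.Statements.S19480

/-!
# The Frobenius on quotients by regular sequences
-/
set_option autoImplicit false
set_option linter.unusedVariables false

universe u

open CategoryTheory CategoryTheory.Limits AlgebraicGeometry RingTheory.Sequence

namespace K841.Quiet

open _root_.Quiet

lemma weaklyRegular_map {R S : Type*} [CommRing R] [CommRing S] (f : R →+* S) (hf : f.Flat)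
    {rs : List R} (h : IsWeaklyRegular R rs) : IsWeaklyRegular S (rs.map f) := by
  algebraize [f]
  exact h.of_flat

/-- Quotients by an ideal and its image form a pushout square. -/
lemma isPushout_quotientMap {R S : Type u} [CommRing R] [CommRing S] (f : R →+* S) (I : Ideal R) :
    IsPushout (CommRingCat.ofHom f) (CommRingCat.ofHom (Ideal.Quotient.mk I))
      (CommRingCat.ofHom (Ideal.Quotient.mk (I.map f)))
      (CommRingCat.ofHom (Ideal.quotientMap (I.map f) f Ideal.le_comap_map)) := by
  refine ⟨⟨?_⟩, ⟨PushoutCocone.IsColimit.mk _ (fun s => CommRingCat.ofHom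
    (Ideal.Quotient.lift (I.map f) s.inl.hom ?_)) ?_ ?_ ?_⟩⟩
  · ext x
    simp
  · have h1 : I.map f ≤ RingHom.ker s.inl.hom := by
      rw [Ideal.map_le_iff_le_comap]
      intro a ha
      rw [Ideal.mem_comap, RingHom.mem_ker]
      have h2 := congr($(s.condition).hom a)
      simp only [CommRingCat.hom_comp, CommRingCat.hom_ofHom, RingHom.comp_apply] at h2
      rw [h2, Ideal.Quotient.eq_zero_iff_mem.2 ha, map_zero]
    exact fun a ha => h1 ha
  · intro s
    ext x
    simp
  · intro s
    apply CommRingCat.hom_ext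
    apply Ideal.Quotient.ringHom_ext
    ext x
    have h := congr($(s.condition).hom x)
    simpa using h
  · intro s m h1 h2
    apply CommRingCat.hom_ext
    apply Ideal.Quotient.ringHom_ext
    ext x
    have := congr($(h1).hom x)
    simpa using this

theorem main_19480 (p : ℕ) [Fact p.Prime]
    (k : Type u) [Field k] [CharP k p] [PerfectRing k p] (A : Type u) [CommRing A] [Algebra k A]
    [CharP A p] [Algebra.Smooth k A] (n : ℕ) (t : Fin n → A) (ht : RingTheory.Sequence.IsRegular A (List.ofFn t))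
    (r m : ℕ) (v : Fin m → MvPolynomial (Fin r) A)
    (hv : RingTheory.Sequence.IsRegular
      (MvPolynomial (Fin r) A ⧸ Ideal.span (Set.range fun i => MvPolynomial.C (t i) ^ p))
      (List.ofFn fun j => Ideal.Quotient.mk (Ideal.span (Set.range fun i => MvPolynomial.C (t i) ^ p)) (v j))) :
    RingTheory.Sequence.IsRegular (MvPolynomial (Fin r) A)
        (List.ofFn (fun i => MvPolynomial.C (t i) ^ (p ^ 2)) ++ List.ofFn (fun j => v j ^ p)) ∧
      (Ideal.quotientMap ((Ideal.span (Set.range (fun i => MvPolynomial.C (t i) ^ p) ∪ Set.range v)).map (frobenius (MvPolynomial (Fin r) A) p)) (frobenius (MvPolynomial (Fin r) A) p) Ideal.le_comap_map).FaithfullyFlat ∧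
      IsPthRoot p (Spec.map (CommRingCat.ofHom (Ideal.quotientMap ((Ideal.span (Set.range (fun i => MvPolynomial.C (t i) ^ p) ∪ Set.range v)).map (frobenius (MvPolynomial (Fin r) A) p)) (frobenius (MvPolynomial (Fin r) A) p) Ideal.le_comap_map))) := by
  have hp : p ≠ 0 := (Fact.out : p.Prime).ne_zero
  have hsm : Algebra.Smooth A (MvPolynomial (Fin r) A) :=
    { formallySmooth := inferInstance
      finitePresentation := inferInstance }
  have : Algebra.Smooth k (MvPolynomial (Fin r) A) := Algebra.Smooth.comp k A _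
  have hF := isPthRoot_frobenius_of_smooth p k (MvPolynomial (Fin r) A)
  have hFf : (frobenius (MvPolynomial (Fin r) A) p).FaithfullyFlat :=
    faithfullyFlat_of_isPthRoot hp hF
  have hroot : IsPthRoot p (Spec.map (CommRingCat.ofHom (Ideal.quotientMap ((Ideal.span (Set.range (fun i => MvPolynomial.C (t i) ^ p) ∪ Set.range v)).map (frobenius (MvPolynomial (Fin r) A) p)) (frobenius (MvPolynomial (Fin r) A) p) Ideal.le_comap_map))) :=
    pthRoot_of_isPullback (isPullback_SpecMap_of_isPushout _ _ _ _
      (isPushout_quotientMap (frobenius (MvPolynomial (Fin r) A) p) _)) hF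
  refine ⟨?_, faithfullyFlat_of_isPthRoot hp hroot, hroot⟩
  set I₀ : Ideal (MvPolynomial (Fin r) A) := Ideal.span (Set.range fun i => MvPolynomial.C (t i) ^ p) with hI₀
  set rs1 : List (MvPolynomial (Fin r) A) := List.ofFn (fun i => MvPolynomial.C (t i) ^ p) with hrs1
  set rs2 : List (MvPolynomial (Fin r) A) := List.ofFn v with hrs2
  have hof : Ideal.ofList rs1 = I₀ := by
    rw [Ideal.ofList, hrs1, hI₀]
    congr 1
    ext x
    simp [List.mem_ofFn]
  have h1 : IsWeaklyRegular (MvPolynomial (Fin r) A) (List.ofFn (fun i => (MvPolynomial.C (t i) : MvPolynomial (Fin r) A))) := by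
    have h := weaklyRegular_map (MvPolynomial.C : A →+* MvPolynomial (Fin r) A)
      (RingHom.flat_algebraMap_iff.2 inferInstance) ht.toIsWeaklyRegular
    rw [List.map_ofFn] at h
    exact h
  have h3 : IsWeaklyRegular (MvPolynomial (Fin r) A) rs1 := by
    have h := weaklyRegular_map (frobenius (MvPolynomial (Fin r) A) p) hFf.flat h1
    rw [List.map_ofFn] at h
    exact h
  have hrs2' : List.ofFn (fun j => Ideal.Quotient.mk I₀ (v j)) =
      rs2.map (algebraMap (MvPolynomial (Fin r) A) (MvPolynomial (Fin r) A ⧸ I₀)) := by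
    rw [hrs2, List.map_ofFn]
    rfl
  rw [hrs2'] at hv
  have h4 : IsWeaklyRegular (MvPolynomial (Fin r) A ⧸
      (Ideal.ofList rs1 • ⊤ : Submodule (MvPolynomial (Fin r) A) (MvPolynomial (Fin r) A))) rs2 := by
    have h := (isWeaklyRegular_map_algebraMap_iff (R := MvPolynomial (Fin r) A)
      (S := MvPolynomial (Fin r) A ⧸ I₀) (MvPolynomial (Fin r) A ⧸ I₀) rs2).1 hv.toIsWeaklyRegular
    have e : I₀ = (Ideal.ofList rs1 • ⊤ : Submodule (MvPolynomial (Fin r) A) (MvPolynomial (Fin r) A)) := by
      rw [hof, smul_eq_mul, Ideal.mul_top]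
    exact (LinearEquiv.isWeaklyRegular_congr (Submodule.quotEquivOfEq _ _ e) rs2).1 h
  have h5 := (isWeaklyRegular_append_iff (MvPolynomial (Fin r) A) rs1 rs2).2 ⟨h3, h4⟩
  have h6 := weaklyRegular_map (frobenius (MvPolynomial (Fin r) A) p) hFf.flat h5
  have e6 : (rs1 ++ rs2).map (frobenius (MvPolynomial (Fin r) A) p) =
      List.ofFn (fun i => MvPolynomial.C (t i) ^ (p ^ 2)) ++ List.ofFn (fun j => v j ^ p) := by
    rw [List.map_append, hrs1, hrs2, List.map_ofFn, List.map_ofFn]
    congr 1
    congr 1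
    funext i
    simp [frobenius_def, pow_two, pow_mul]
  rw [e6] at h6
  refine ⟨h6, ?_⟩
  intro htop
  rw [smul_eq_mul, Ideal.mul_top] at htop
  have hle : Ideal.ofList (List.ofFn (fun i => (MvPolynomial.C (t i) : MvPolynomial (Fin r) A) ^ (p ^ 2)) ++ List.ofFn (fun j => v j ^ p)) ≤ I₀ ⊔ Ideal.ofList rs2 := by
    rw [Ideal.ofList, Ideal.span_le]
    intro x hx
    simp only [List.mem_append, List.mem_ofFn, Set.mem_ofPred_eq] at hx
    rcases hx with ⟨i, rfl⟩ | ⟨j, rfl⟩
    · refine Ideal.mem_sup_left ?_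
      change _ ∈ I₀
      have hmem : (MvPolynomial.C (t i) : MvPolynomial (Fin r) A) ^ p ∈ I₀ :=
        Ideal.subset_span ⟨i, rfl⟩
      rw [pow_two, pow_mul]
      exact Ideal.pow_mem_of_mem _ hmem _ (Nat.pos_of_ne_zero hp)
    · refine Ideal.mem_sup_right ?_
      exact Ideal.pow_mem_of_mem _ (Ideal.subset_span (by simp [hrs2, List.mem_ofFn])) _
        (Nat.pos_of_ne_zero hp)
  have htop' : I₀ ⊔ Ideal.ofList rs2 = ⊤ := top_le_iff.1 (htop.le.trans hle)
  apply hv.top_ne_smul
  rw [smul_eq_mul, Ideal.mul_top]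
  have h7 := congrArg (Ideal.map (Ideal.Quotient.mk I₀)) htop'
  rw [Ideal.map_sup, Ideal.map_top, Ideal.map_quotient_self, bot_sup_eq, Ideal.map_ofList] at h7
  exact h7.symm

end K841.Quiet
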