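import Groth.Agent.Quiet.K841.SyntRing
import Groth.Agent.Quiet.K841.Comp

/-!
# Quasi-etale morphisms are syntomic
-/
set_option autoImplicit false
set_option linter.unusedVariables false

universe u

open CategoryTheory CategoryTheory.Limits AlgebraicGeometry Polynomial TensorProduct

namespace K841.Quiet

open _root_.Quiet

theorem isSyntomicMor_of_isQuiet {p : ℕ} [Fact p.Prime] {X Y : Scheme.{u}}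
    (f : Y ⟶ X) (hf : IsQuiet p f) : Synt.IsSyntomicMor f := by
  have hp : p ≠ 0 := (Fact.out : p.Prime).ne_zero
  rw [isQuiet_iff] at hf
  intro y
  obtain ⟨V₀, j, Y', r, e, h0, ⟨v₀, rfl⟩, h2, h3, h4⟩ := hf y
  rw [isPthRoot_iff] at h2
  obtain ⟨_, ⟨V, hV, rfl⟩, hyV, -⟩ := X.isBasis_affineOpens.exists_subset_of_mem_open
    (Set.mem_univ (f (j v₀))) isOpen_univ
  obtain ⟨U₀, hU₀, hU₀', m, hm⟩ := h2 (r v₀)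
  have hev : r v₀ ∈ e ⁻¹ᵁ V := by
    change e (r v₀) ∈ V
    rw [← Scheme.Hom.comp_apply, h4, Scheme.Hom.comp_apply]
    exact hyV
  obtain ⟨_, ⟨U₁, hU₁, rfl⟩, hyU₁, hle⟩ := Y'.isBasis_affineOpens.exists_subset_of_mem_open
    (show r v₀ ∈ ((U₀.1 : Set Y') ∩ (e ⁻¹ᵁ V : Set Y')) from ⟨hU₀, hev⟩)
    (U₀.1.2.inter (e ⁻¹ᵁ V).2)
  have hle1 : U₁ ≤ U₀.1 := fun z hz => (hle hz).1
  have hle2 : U₁ ≤ e ⁻¹ᵁ V := fun z hz => (hle hz).2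
  obtain ⟨haff, ht⟩ := tower_app_mono U₀.2 hU₀' hU₁ hle1 hm
  have hUaff : IsAffineOpen (j ''ᵁ (r ⁻¹ᵁ U₁)) := haff.image_of_isOpenImmersion j
  have he' : j ''ᵁ (r ⁻¹ᵁ U₁) ≤ f ⁻¹ᵁ V := by
    rintro _ ⟨w, hw, rfl⟩
    change f (j w) ∈ V
    rw [← Scheme.Hom.comp_apply, ← h4, Scheme.Hom.comp_apply]
    exact hle2 hw
  refine ⟨⟨j ''ᵁ (r ⁻¹ᵁ U₁), hUaff⟩, ⟨V, hV⟩, he', ⟨v₀, hyU₁, rfl⟩, ?_⟩
  have hUST : r ⁻¹ᵁ U₁ ≤ j ⁻¹ᵁ (j ''ᵁ (r ⁻¹ᵁ U₁)) := by rw [Scheme.Hom.preimage_image_eq]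
  have hi1 : IsIso (j.appLE (j ''ᵁ (r ⁻¹ᵁ U₁)) (r ⁻¹ᵁ U₁) hUST) := by
    rw [← Scheme.Hom.appIso_hom']
    infer_instance
  have hfac : f.appLE V (j ''ᵁ (r ⁻¹ᵁ U₁)) he' = e.appLE V U₁ hle2 ≫
      (r.app U₁ ≫ inv (j.appLE (j ''ᵁ (r ⁻¹ᵁ U₁)) (r ⁻¹ᵁ U₁) hUST)) := by
    rw [← Category.assoc, IsIso.eq_comp_inv, Scheme.Hom.app_eq_appLE, Scheme.Hom.appLE_comp_appLE,
      Scheme.Hom.appLE_comp_appLE]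
    simp only [h4]
  have htow : Tower p (m + 0)
      (r.app U₁ ≫ inv (j.appLE (j ''ᵁ (r ⁻¹ᵁ U₁)) (r ⁻¹ᵁ U₁) hUST)) :=
    ht.comp (by rw [tower_zero]; infer_instance)
  have het : (e.appLE V U₁ hle2).hom.Etale :=
    HasRingHomProperty.appLE (P := @Etale) e h3 ⟨V, hV⟩ ⟨U₁, hU₁⟩ hle2
  let a1 : Algebra Γ(X, V) Γ(Y', U₁) := (e.appLE V U₁ hle2).hom.toAlgebra
  let a2 : Algebra Γ(X, V) Γ(Y, j ''ᵁ (r ⁻¹ᵁ U₁)) := (f.appLE V (j ''ᵁ (r ⁻¹ᵁ U₁)) he').hom.toAlgebra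
  have a3 : Algebra.Etale Γ(X, V) Γ(Y', U₁) := het
  let φ : Γ(Y', U₁) →ₐ[Γ(X, V)] Γ(Y, j ''ᵁ (r ⁻¹ᵁ U₁)) :=
    { (r.app U₁ ≫ inv (j.appLE (j ''ᵁ (r ⁻¹ᵁ U₁)) (r ⁻¹ᵁ U₁) hUST)).hom with
      commutes' := fun x => congr($(hfac).hom x).symm }
  exact isSyntomic_of_etale_tower (p := p) (m := m + 0) hp Γ(X, V) Γ(Y', U₁)
    Γ(Y, j ''ᵁ (r ⁻¹ᵁ U₁)) φ htow

end K841.Quiet
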