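import Groth.Agent.Quiet.K841.Pres
import Groth.Agent.Quiet.K841.PthRoot
import Groth.Prelude.Def_RegImm
import Mathlib.RingTheory.Unramified.Finite
import Mathlib.RingTheory.Artinian.Ring
import Mathlib.RingTheory.KrullDimension.Zero
import Mathlib.RingTheory.RingHom.Etale

/-!
# Étale algebras followed by root towers are syntomic
-/
set_option autoImplicit false
set_option linter.unusedVariables false

universe u

open CategoryTheory CategoryTheory.Limits AlgebraicGeometry Polynomial TensorProduct

namespace K841.Quiet

open _root_.Quiet

/-- Over a field: étale followed by a tower is a local complete intersection. -/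
theorem isLCIOver_of_tower {p m : ℕ} (hp : p ≠ 0) (k E D : Type u) [Field k] [CommRing E] [CommRing D]
    [Algebra k E] [Algebra k D] [Algebra.Etale k E] (φ : E →ₐ[k] D)
    (h : Tower p m (CommRingCat.ofHom φ.toRingHom)) : Synt.IsLCIOver k D := by
  have hfin : (φ : E →+* D).Finite := h.finite hp
  have hfinE : Module.Finite k E := Algebra.FormallyUnramified.finite_of_free k E
  have hfinD : Module.Finite k D := by
    have h1 : (algebraMap k D).Finite := by
      rw [← φ.comp_algebraMap]
      exact hfin.comp (RingHom.finite_algebraMap.2 hfinE)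
    exact RingHom.finite_algebraMap.1 h1
  refine ⟨inferInstance, fun q => ?_⟩
  let q₀ : Ideal E := q.asIdeal.comap (φ : E →+* D)
  have hq₀ : q₀.IsPrime := Ideal.IsPrime.comap _
  obtain ⟨a, ha, hstd⟩ := Algebra.IsEtaleAt.exists_isStandardEtale (R := k) q₀
  refine ⟨φ a, ha, ?_⟩
  -- the localized tower
  let S := Submonoid.powers a
  have hS : S.map (φ : E →+* D) = Submonoid.powers (φ a) := by
    simp only [S, Submonoid.map_powers]
    rfl
  have hloc : IsLocalization (S.map (φ : E →+* D)) (Localization.Away (φ a)) := by
    rw [hS]
    infer_instance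
  have hloc' : IsLocalization.Away ((φ : E →+* D) a) (Localization.Away (φ a)) :=
    inferInstanceAs (IsLocalization.Away (φ a) (Localization.Away (φ a)))
  let φ' : Localization.Away a →+* Localization.Away (φ a) :=
    IsLocalization.Away.map (Localization.Away a) (Localization.Away (φ a)) (φ : E →+* D) a
  have hφ' : φ'.comp (algebraMap E (Localization.Away a)) =
      (algebraMap D (Localization.Away (φ a))).comp (φ : E →+* D) := by
    ext x
    simp [φ', IsLocalization.Away.map]
  have hpo := CommRingCat.isPushout_of_isLocalization (φ : E →+* D) φ' hφ' S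
  have ht' : Tower p m (CommRingCat.ofHom φ') := Tower.of_isPushout hpo h
  have hpres := ht'.hasPres (k := k) (f := algebraMap k (Localization.Away a))
    (hasPres_of_isStandardEtale k (Localization.Away a))
  have hcomp : (CommRingCat.ofHom φ').hom.comp (algebraMap k (Localization.Away a)) =
      algebraMap k (Localization.Away (φ a)) := by
    rw [IsScalarTower.algebraMap_eq k E (Localization.Away a), ← RingHom.comp_assoc]
    change (φ'.comp (algebraMap E (Localization.Away a))).comp (algebraMap k E) = _
    rw [hφ', RingHom.comp_assoc, IsScalarTower.algebraMap_eq k D (Localization.Away (φ a))]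
    congr 1
    exact φ.comp_algebraMap
  rw [hcomp] at hpres
  rcases subsingleton_or_nontrivial (Localization.Away (φ a)) with hs | hs
  · exact Or.inl hs
  · right
    obtain ⟨ψ, r, h1, h2, h3⟩ := hpres
    have hD' : Module.Finite k (Localization.Away (φ a)) := by
      have h4 : (algebraMap k (Localization.Away (φ a))).Finite := by
        rw [← hcomp]
        exact (ht'.finite hp).comp (RingHom.finite_algebraMap.2
          (Algebra.FormallyUnramified.finite_of_free k (Localization.Away a)))
      exact RingHom.finite_algebraMap.1 h4
    have hart : IsArtinianRing (Localization.Away (φ a)) := IsArtinianRing.of_finite k _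
    refine ⟨2 + m, 2 + m, le_rfl, { ψ with commutes' := fun x => congr($h1 x) }, r, h2, h3, ?_⟩
    rw [Nat.sub_self]
    change ringKrullDim (Localization.Away (φ a)) = 0
    rw [← ringKrullDimZero_iff_ringKrullDim_eq_zero]
    infer_instance

/-- Étale followed by a tower is syntomic. -/
theorem isSyntomic_of_etale_tower {p m : ℕ} (hp : p ≠ 0) (R A B : Type u) [CommRing R] [CommRing A]
    [CommRing B] [Algebra R A] [Algebra R B] [Algebra.Etale R A] (φ : A →ₐ[R] B)
    (h : Tower p m (CommRingCat.ofHom φ.toRingHom)) : Synt.IsSyntomic R B := by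
  have hflat : (φ : A →+* B).Flat := (h.faithfullyFlat hp).flat
  have hfp : (φ : A →+* B).FinitePresentation := h.finitePresentation hp
  refine ⟨?_, ?_, fun 𝔭 => ?_⟩
  · have h1 : (algebraMap R B).Flat := by
      rw [← φ.comp_algebraMap]
      exact RingHom.Flat.comp (RingHom.flat_algebraMap_iff.2 inferInstance) hflat
    exact RingHom.flat_algebraMap_iff.1 h1
  · have h1 : (algebraMap R B).FinitePresentation := by
      rw [← φ.comp_algebraMap]
      exact hfp.comp (RingHom.finitePresentation_algebraMap.2 inferInstance)
    exact RingHom.finitePresentation_algebraMap.1 h1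
  · let κ := 𝔭.asIdeal.ResidueField
    let φ' : κ ⊗[R] A →ₐ[κ] κ ⊗[R] B := Algebra.TensorProduct.map (AlgHom.id κ κ) φ
    refine isLCIOver_of_tower (p := p) (m := m) hp κ (κ ⊗[R] A) (κ ⊗[R] B) φ' ?_
    have P1 := CommRingCat.isPushout_tensorProduct R κ A
    have P2 := CommRingCat.isPushout_tensorProduct R κ B
    refine Tower.of_isPushout (α := CommRingCat.ofHom (Algebra.TensorProduct.includeRight (R := R) (A := κ) (B := A)).toRingHom)
      (β := CommRingCat.ofHom (Algebra.TensorProduct.includeRight (R := R) (A := κ) (B := B)).toRingHom) ?_ h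
    refine (IsPushout.of_left (h₁₁ := CommRingCat.ofHom (algebraMap R A))
      (h₂₁ := CommRingCat.ofHom Algebra.TensorProduct.includeLeftRingHom)
      (v₁₁ := CommRingCat.ofHom (algebraMap R κ)) ?_ ?_ P1.flip)
    · have e1 : CommRingCat.ofHom (algebraMap R A) ≫ CommRingCat.ofHom φ.toRingHom =
          CommRingCat.ofHom (algebraMap R B) := by
        rw [← CommRingCat.ofHom_comp]
        congr 1
        exact φ.comp_algebraMap
      have e2 : CommRingCat.ofHom (Algebra.TensorProduct.includeLeftRingHom (R := R) (A := κ) (B := A)) ≫
          CommRingCat.ofHom φ'.toRingHom = CommRingCat.ofHom Algebra.TensorProduct.includeLeftRingHom := by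
        rw [← CommRingCat.ofHom_comp]
        congr 1
        ext x
        simp [φ']
      rw [e1, e2]
      exact P2.flip
    · rw [← CommRingCat.ofHom_comp, ← CommRingCat.ofHom_comp]
      congr 1

end K841.Quiet
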