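import Groth.Prelude.Def_W4c2gaugesfzipsQuiet
import Mathlib.AlgebraicGeometry.Morphisms.Flat
import Mathlib.Algebra.Category.Ring.Constructions

/-!
# Root towers as morphisms in `CommRingCat`; base change and composition
-/
set_option autoImplicit false
set_option linter.unusedVariables false

universe u

open CategoryTheory CategoryTheory.Limits AlgebraicGeometry Polynomial

namespace K841.Quiet

open _root_.Quiet

/-- The elementary extension `A → A[x]/(x^p - a)`. -/
noncomputable abbrev rootMap (p : ℕ) (A : CommRingCat.{u}) (a : A) :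
    A ⟶ CommRingCat.of (RootRing p A a) :=
  CommRingCat.ofHom (AdjoinRoot.of _)

/-- Root towers, as a property of morphisms. -/
def Tower (p : ℕ) : ℕ → ∀ {A B : CommRingCat.{u}}, (A ⟶ B) → Prop
  | 0, _, _, φ => IsIso φ
  | n + 1, A, B, φ => ∃ (a : A) (ψ : CommRingCat.of (RootRing p A a) ⟶ B),
      rootMap p A a ≫ ψ = φ ∧ Tower p n ψ

lemma tower_zero {p : ℕ} {A B : CommRingCat.{u}} {φ : A ⟶ B} : Tower p 0 φ ↔ IsIso φ := Iff.rfl

lemma tower_succ {p n : ℕ} {A B : CommRingCat.{u}} {φ : A ⟶ B} :
    Tower p (n + 1) φ ↔ ∃ (a : A) (ψ : CommRingCat.of (RootRing p A a) ⟶ B),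
      rootMap p A a ≫ ψ = φ ∧ Tower p n ψ := Iff.rfl

theorem isRootTower_iff (p n : ℕ) (A B : CommRingCat.{u}) (φ : A ⟶ B) :
    (letI := φ.hom.toAlgebra; IsRootTower p n A B) ↔ Tower p n φ := by
  induction n generalizing A B with
  | zero =>
    let _ := φ.hom.toAlgebra
    rw [tower_zero]
    change Nonempty (B ≃ₐ[A] A) ↔ _
    constructor
    · rintro ⟨e⟩
      have h1 : Function.Bijective φ.hom := by
        have : (φ.hom : A → B) = e.symm := by
          funext x
          have := e.symm.commutes x
          exact this.symm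
        rw [this]
        exact e.symm.bijective
      have : IsIso ((forget CommRingCat).map φ) := (isIso_iff_bijective _).2 h1
      exact isIso_of_reflects_iso φ (forget CommRingCat)
    · intro h
      exact ⟨(AlgEquiv.ofBijective (Algebra.ofId A B)
        ((ConcreteCategory.isIso_iff_bijective φ).1 h)).symm⟩
  | succ n ih =>
    rw [tower_succ]
    let _ := φ.hom.toAlgebra
    change (∃ (a : A) (_ : Algebra (RootRing p A a) B),
      IsScalarTower A (RootRing p A a) B ∧ IsRootTower p n (RootRing p A a) B) ↔ _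
    refine exists_congr fun a => ?_
    constructor
    · rintro ⟨i, h1, h2⟩
      refine ⟨CommRingCat.ofHom (algebraMap (RootRing p A a) B), ?_, ?_⟩
      · ext x
        exact (IsScalarTower.algebraMap_apply A (RootRing p A a) B x).symm
      · rw [← ih]
        have e : (algebraMap (RootRing p A a) B).toAlgebra = i :=
          Algebra.algebra_ext _ _ (fun r => rfl)
        change @IsRootTower p n (RootRing p A a) B _ _ ((algebraMap (RootRing p A a) B).toAlgebra)
        rw [e]
        exact h2
    · rintro ⟨ψ, h1, h2⟩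
      refine ⟨ψ.hom.toAlgebra, ?_, ?_⟩
      · refine @IsScalarTower.of_algebraMap_eq A (RootRing p A a) B _ _ _ _ ψ.hom.toAlgebra _ fun x => ?_
        exact (congr($(h1).hom x)).symm
      · exact (ih _ _ ψ).2 h2

/-- The elementary extension is compatible with base change. -/
lemma rootMap_isPushout (p : ℕ) {A A' : CommRingCat.{u}} (α : A ⟶ A') (a : A) :
    IsPushout (rootMap p A a) α
      (CommRingCat.ofHom (AdjoinRoot.map α.hom (X ^ p - C a : A[X]) (X ^ p - C (α.hom a) : A'[X])
        (by simp))) (rootMap p A' (α.hom a)) := by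
  refine ⟨⟨?_⟩, ⟨PushoutCocone.IsColimit.mk _ (fun s => CommRingCat.ofHom
    (AdjoinRoot.lift s.inr.hom (s.inl.hom (AdjoinRoot.root _)) ?_)) ?_ ?_ ?_⟩⟩
  · ext x
    simp
  · have h1 := congr($(s.condition).hom a)
    simp only [CommRingCat.hom_comp, RingHom.comp_apply, CommRingCat.hom_ofHom] at h1
    have h2 : (AdjoinRoot.root (X ^ p - C a : A[X])) ^ p = AdjoinRoot.of _ a := by
      have := AdjoinRoot.eval₂_root (X ^ p - C a : A[X])
      simpa [sub_eq_zero] using this
    simp only [eval₂_sub, eval₂_pow, eval₂_X, eval₂_C, ← map_pow, h2]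
    rw [sub_eq_zero]
    exact h1
  · intro s
    ext x
    · have h1 := congr($(s.condition).hom x)
      simpa using h1.symm
    · simp
  · intro s
    ext x
    simp
  · intro s m h1 h2
    ext x
    · have := congr($(h2).hom x)
      simpa using this
    · have := congr($(h1).hom (AdjoinRoot.root _))
      simpa using this

/-- Root towers are stable under base change. -/
theorem Tower.of_isPushout {p n : ℕ} {A B A' B' : CommRingCat.{u}} {φ : A ⟶ B} {α : A ⟶ A'}
    {β : B ⟶ B'} {φ' : A' ⟶ B'} (H : IsPushout φ α β φ') (h : Tower p n φ) : Tower p n φ' := by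
  induction n generalizing A B A' B' with
  | zero =>
    rw [tower_zero] at h ⊢
    exact H.isIso_inr_of_isIso
  | succ n ih =>
    obtain ⟨a, ψ, h1, h2⟩ := h
    subst h1
    have hleft := rootMap_isPushout p α a
    have hw : rootMap p A a ≫ (ψ ≫ β) = α ≫ φ' := by
      rw [← Category.assoc]
      exact H.w
    refine ⟨α.hom a, hleft.desc (ψ ≫ β) φ' hw, hleft.inr_desc _ _ hw, ?_⟩
    refine ih (φ := ψ) (α := CommRingCat.ofHom (AdjoinRoot.map α.hom (X ^ p - C a : A[X])
      (X ^ p - C (α.hom a) : A'[X]) (by simp))) (β := β) ?_ h2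
    refine IsPushout.of_left (h₁₁ := rootMap p A a) (h₂₁ := rootMap p A' (α.hom a)) ?_ ?_ hleft
    · rw [hleft.inr_desc]
      exact H
    · exact (hleft.inl_desc _ _ hw).symm

/-- Root towers compose. -/
theorem Tower.comp {p n m : ℕ} {A B C : CommRingCat.{u}} {φ : A ⟶ B} {ψ : B ⟶ C}
    (h : Tower p n φ) (h' : Tower p m ψ) : Tower p (n + m) (φ ≫ ψ) := by
  induction n generalizing A B C with
  | zero =>
    rw [tower_zero] at h
    rw [Nat.zero_add]
    refine h'.of_isPushout (α := inv φ) (β := 𝟙 _) ?_
    exact IsPushout.of_vert_isIso ⟨by simp⟩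
  | succ n ih =>
    obtain ⟨a, χ, h1, h2⟩ := h
    rw [Nat.succ_add]
    refine ⟨a, χ ≫ ψ, ?_, ih h2 h'⟩
    rw [← Category.assoc, h1]

end K841.Quiet
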